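import Mathlib.RingTheory.IsTensorProduct
import Mathlib.RingTheory.Kaehler.Basic

/-!
# Base change of `(B ⊗ B) / I^(n+1)`
-/

set_option autoImplicit false
set_option linter.style.haveILetI false
universe u

open scoped TensorProduct

namespace Groth.Agent.Lib.PrinPartsBC

variable {A B A' B' : Type u} [CommRing A] [CommRing B] [CommRing A'] [CommRing B']
  [Algebra A B] [Algebra A A'] [Algebra B B'] [Algebra A' B'] [Algebra A B']
  [IsScalarTower A B B'] [IsScalarTower A A' B'] [Algebra.IsPushout A A' B B']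

theorem bc_bijective (n : ℕ) {P N : Type u} [AddCommGroup P] [Module B P] [AddCommGroup N]
    (ψ : B ⊗[A] B →ₗ[B] P) (hψ : Function.Surjective ψ)
    (hψk : ∀ τ, ψ τ = 0 ↔ τ ∈ KaehlerDifferential.ideal A B ^ (n + 1))
    (ψ' : B' ⊗[A'] B' →+ N) (hψ' : Function.Surjective ψ')
    (hψ'k : ∀ τ, ψ' τ = 0 ↔ τ ∈ KaehlerDifferential.ideal A' B' ^ (n + 1))
    (L : B' ⊗[B] P →+ N)
    (hL : ∀ (b' : B') (a c : B), L (b' ⊗ₜ ψ (a ⊗ₜ c)) =
      ψ' ((b' * algebraMap B B' a) ⊗ₜ algebraMap B B' c)) :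
    Function.Bijective L := by
  let Q := B' ⊗[B] (B ⊗[A] B)
  let T := B' ⊗[A'] B'
  -- the comparison map and its inverse
  let g₂ : B →ₐ[A] T :=
    { (Algebra.TensorProduct.includeRight (R := A') (A := B') (B := B')).toRingHom.comp (algebraMap B B') with
      commutes' := fun a => by
        show (1 : B') ⊗ₜ[A'] algebraMap B B' (algebraMap A B a) = _
        rw [← IsScalarTower.algebraMap_apply, IsScalarTower.algebraMap_apply A A' B',
          ← Algebra.TensorProduct.tmul_one_eq_one_tmul, ← IsScalarTower.algebraMap_apply]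
        rfl }
  let θ : B ⊗[A] B →ₐ[B] T := Algebra.TensorProduct.lift (Algebra.ofId B T) g₂ fun _ _ => Commute.all _ _
  let Θ : Q →ₐ[B'] T := Algebra.TensorProduct.lift (Algebra.ofId B' T) θ fun _ _ => Commute.all _ _
  have hΘ : ∀ (b' : B') (a c : B),
      Θ (b' ⊗ₜ (a ⊗ₜ c)) = (b' * algebraMap B B' a) ⊗ₜ algebraMap B B' c := fun b' a c => by
    show (b' ⊗ₜ[A'] (1 : B')) * ((algebraMap B B' a ⊗ₜ[A'] (1 : B')) * ((1 : B') ⊗ₜ[A'] algebraMap B B' c)) = _
    simp [Algebra.TensorProduct.tmul_mul_tmul]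
  let f₁ : A' →ₐ[A] Q :=
    { (algebraMap B' Q).comp (algebraMap A' B') with
      commutes' := fun a => by
        show (algebraMap A' B' (algebraMap A A' a)) ⊗ₜ[B] (1 : B ⊗[A] B) = _
        rw [← IsScalarTower.algebraMap_apply]
        rfl }
  let g₁ : B →ₐ[A] Q :=
    { (Algebra.TensorProduct.includeRight (R := B) (A := B') (B := B ⊗[A] B)).toRingHom.comp
        (Algebra.TensorProduct.includeRight (R := A) (A := B) (B := B)).toRingHom with
      commutes' := fun a => by
        show (1 : B') ⊗ₜ[B] ((1 : B) ⊗ₜ[A] algebraMap A B a) = (algebraMap A B' a) ⊗ₜ[B] (1 : B ⊗[A] B)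
        rw [IsScalarTower.algebraMap_apply A B B', Algebra.TensorProduct.tmul_one_eq_one_tmul]
        exact congrArg _ (Algebra.TensorProduct.tmul_one_eq_one_tmul a).symm }
  let κ : B' →ₐ[A] Q := Algebra.pushoutDesc B' f₁ g₁ fun _ _ => Commute.all _ _
  let κ' : B' →ₐ[A'] Q :=
    { κ.toRingHom with commutes' := fun x => Algebra.pushoutDesc_left (R' := B) B' f₁ g₁ _ x }
  have hκ : ∀ b : B, κ' (algebraMap B B' b) = 1 ⊗ₜ (1 ⊗ₜ b) := fun b =>
    Algebra.pushoutDesc_right B' f₁ g₁ _ b
  let Ξ : T →ₐ[B'] Q := Algebra.TensorProduct.lift (Algebra.ofId B' Q) κ' fun _ _ => Commute.all _ _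
  have hΞ : ∀ x y : B', Ξ (x ⊗ₜ y) = (x ⊗ₜ 1) * κ' y := fun x y => rfl
  have hΞΘ : ∀ q, Ξ (Θ q) = q := by
    intro q
    induction q using TensorProduct.induction_on with
    | zero => rw [map_zero, map_zero]
    | add x y hx hy => rw [map_add, map_add, hx, hy]
    | tmul b' τ =>
      induction τ using TensorProduct.induction_on with
      | zero => rw [TensorProduct.tmul_zero, map_zero, map_zero]
      | add x y hx hy => rw [TensorProduct.tmul_add, map_add, map_add, hx, hy]
      | tmul a c =>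
        rw [hΘ, hΞ, hκ, Algebra.TensorProduct.tmul_mul_tmul, mul_one, one_mul,
          show b' * algebraMap B B' a = a • b' by rw [Algebra.smul_def, mul_comm],
          TensorProduct.smul_tmul, TensorProduct.smul_tmul', smul_eq_mul, mul_one]
  have hΘsur : Function.Surjective Θ := by
    have h : ∀ y : B', ∃ q, Θ q = 1 ⊗ₜ y := fun y => by
      refine (‹Algebra.IsPushout A A' B B'›).out.inductionOn y _ ⟨0, by simp⟩ (fun b => ?_) ?_ ?_
      · exact ⟨1 ⊗ₜ (1 ⊗ₜ b), by rw [hΘ]; simp⟩
      · rintro s m ⟨q, hq⟩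
        refine ⟨algebraMap A' B' s • q, ?_⟩
        rw [map_smul, hq, TensorProduct.smul_tmul', smul_eq_mul, mul_one,
          Algebra.algebraMap_eq_smul_one, TensorProduct.smul_tmul]
      · rintro x y ⟨p, hp⟩ ⟨q, hq⟩
        exact ⟨p + q, by rw [map_add, hp, hq, TensorProduct.tmul_add]⟩
    intro t
    induction t using TensorProduct.induction_on with
    | zero => exact ⟨0, map_zero _⟩
    | add x y hx hy =>
      obtain ⟨p, hp⟩ := hx
      obtain ⟨q, hq⟩ := hy
      exact ⟨p + q, by rw [map_add, hp, hq]⟩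
    | tmul x y =>
      obtain ⟨q, hq⟩ := h y
      exact ⟨x • q, by rw [map_smul, hq, TensorProduct.smul_tmul', smul_eq_mul, mul_one]⟩
  -- the ideals
  let J : Ideal Q := (KaehlerDifferential.ideal A B).map
    (Algebra.TensorProduct.includeRight (R := B) (A := B') (B := B ⊗[A] B))
  have hle : (KaehlerDifferential.ideal A' B').map Ξ ≤ J := by
    rw [← KaehlerDifferential.span_range_eq_ideal A' B', Ideal.map_span, Ideal.span_le]
    rintro _ ⟨_, ⟨y, rfl⟩, rfl⟩
    show Ξ ((1 : B') ⊗ₜ[A'] y - y ⊗ₜ[A'] (1 : B')) ∈ J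
    rw [map_sub, hΞ, hΞ, map_one, mul_one, show (1 : B') ⊗ₜ[B] (1 : B ⊗[A] B) = 1 from rfl, one_mul]
    rw [← Ideal.Quotient.eq]
    refine (‹Algebra.IsPushout A A' B B'›).out.inductionOn y _ ?_ (fun b => ?_) ?_ ?_
    · rw [map_zero, TensorProduct.zero_tmul]
    · show Ideal.Quotient.mk J (κ' (algebraMap B B' b)) = Ideal.Quotient.mk J (algebraMap B B' b ⊗ₜ 1)
      rw [hκ, Ideal.Quotient.eq, Algebra.TensorProduct.tmul_one_eq_one_tmul, ← TensorProduct.tmul_sub]
      exact Ideal.mem_map_of_mem _ (KaehlerDifferential.one_smul_sub_smul_one_mem_ideal A b)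
    · intro s m hm
      have h1 : κ' (s • m) = (algebraMap A' B' s ⊗ₜ (1 : B ⊗[A] B)) * κ' m := by
        rw [Algebra.smul_def, map_mul, AlgHom.commutes]
        rfl
      rw [h1, map_mul, hm, ← map_mul, Algebra.TensorProduct.tmul_mul_tmul, mul_one, Algebra.smul_def]
    · intro x y hx hy
      rw [map_add, map_add, hx, hy, TensorProduct.add_tmul, map_add]
  -- factor through `id ⊗ ψ`
  let π : Q →ₗ[B] B' ⊗[B] P := ψ.lTensor B'
  have hπ : Function.Surjective π := LinearMap.lTensor_surjective B' hψ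
  have hJ : ∀ q ∈ J ^ (n + 1), π q = 0 := by
    intro q hq
    have key : ∀ (x : Q) (t : B ⊗[A] B), t ∈ KaehlerDifferential.ideal A B ^ (n + 1) →
        π (x * ((1 : B') ⊗ₜ[B] t)) = 0 := by
      intro x t ht
      induction x using TensorProduct.induction_on with
      | zero => rw [zero_mul, map_zero]
      | add x y hx hy => rw [add_mul, map_add, hx, hy, add_zero]
      | tmul b' s =>
        rw [Algebra.TensorProduct.tmul_mul_tmul]
        show (b' * 1) ⊗ₜ[B] ψ (s * t) = 0
        rw [(hψk _).2 (Ideal.mul_mem_left _ _ ht), TensorProduct.tmul_zero]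
    rw [← Ideal.map_pow] at hq
    suffices h : ∀ x : Q, π (x * q) = 0 by simpa using h 1
    refine Submodule.span_induction ?_ ?_ ?_ ?_ hq
    · rintro _ ⟨t, ht, rfl⟩ x
      exact key x t ht
    · intro x; rw [mul_zero, map_zero]
    · intro a b _ _ ha hb x; rw [mul_add, map_add, ha, hb, add_zero]
    · intro r a _ ha x
      rw [smul_eq_mul, ← mul_assoc]
      exact ha _
  have hcomm : ∀ q, L (π q) = ψ' (Θ q) := by
    intro q
    induction q using TensorProduct.induction_on with
    | zero => simp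
    | add x y hx hy => simp only [map_add, hx, hy]
    | tmul b' τ =>
      induction τ using TensorProduct.induction_on with
      | zero => simp
      | add x y hx hy => simp only [TensorProduct.tmul_add, map_add, hx, hy]
      | tmul a c => rw [hΘ, ← hL]; rfl
  constructor
  · rw [injective_iff_map_eq_zero]
    intro z hz
    obtain ⟨q, rfl⟩ := hπ z
    rw [hcomm, hψ'k] at hz
    refine hJ q ?_
    have h1 := Ideal.mem_map_of_mem Ξ hz
    rw [hΞΘ, Ideal.map_pow] at h1
    exact Ideal.pow_right_mono hle _ h1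
  · intro m
    obtain ⟨t, rfl⟩ := hψ' m
    obtain ⟨q, rfl⟩ := hΘsur t
    exact ⟨π q, hcomm q⟩

end Groth.Agent.Lib.PrinPartsBC
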