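import Groth.Agent.Lib.PrinPartsBC.Alg
import Groth.Agent.Lib.PrinParts.Affine
import Groth.Agent.Lib.PrinParts.Ring
import Groth.Agent.Lib.CechRes.PullSec
import Groth.Agent.Lib.QCohChart.Basic
import Groth.Agent.Lib.QCoh.Pullback
import Groth.Agent.Lib.TensorMod.QCohInv
import Mathlib.Algebra.Category.Ring.Constructions

/-!
# Principal parts commute with base change
-/

set_option autoImplicit false
set_option linter.style.haveILetI false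
universe u

open CategoryTheory CategoryTheory.Limits AlgebraicGeometry TopologicalSpace Opposite
open Groth.Agent.Lib PrinPart
open scoped TensorProduct

namespace Groth.Agent.Lib.PrinPartsBC

/-- The presentation of the sections of `P^n` on a chart. -/
theorem exists_psi {X S : Scheme.{u}} (f : X ⟶ S) (n : ℕ) {U : X.Opens} {V : S.Opens}
    (hU : IsAffineOpen U) (hV : IsAffineOpen V) (e : U ≤ f ⁻¹ᵁ V) :
    letI := (f.appLE V U e).hom.toAlgebra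
    ∃ ψ : Γ(X, U) ⊗[Γ(S, V)] Γ(X, U) →ₗ[Γ(X, U)] Γ(P f n, U), Function.Surjective ψ ∧
      (∀ τ, ψ τ = 0 ↔ τ ∈ KaehlerDifferential.ideal Γ(S, V) Γ(X, U) ^ (n + 1)) ∧
      ∀ a c, ψ (a ⊗ₜ c) = a • dn f n U c := by
  letI := (f.appLE V U e).hom.toAlgebra
  obtain ⟨χ, hs, hk, h1, h2⟩ := PrinParts.exists_chartHom f hU hV e n
  let E := AddEquiv.ofBijective (PrinParts.toRing f n U) (PrinParts.toRing_bijective f n U)
  have hE : ∀ y, PrinParts.toRing f n U (E.symm y) = y := fun y => E.apply_symm_apply y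
  let ψ : Γ(X, U) ⊗[Γ(S, V)] Γ(X, U) →ₗ[Γ(X, U)] Γ(P f n, U) :=
    { toFun := fun τ => E.symm (χ τ)
      map_add' := fun x y => by rw [map_add, map_add]
      map_smul' := fun a τ => (PrinParts.toRing_bijective f n U).1 (by
        rw [RingHom.id_apply, PrinParts.toRing_smul, hE, hE, ← h1, ← map_mul]
        congr 1
        rw [Algebra.smul_def]
        rfl) }
  refine ⟨ψ, fun m => ?_, fun τ => ?_, fun a c => ?_⟩
  · obtain ⟨τ, hτ⟩ := hs (E m)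
    exact ⟨τ, show E.symm (χ τ) = m by rw [hτ, E.symm_apply_apply]⟩
  · rw [← hk, RingHom.mem_ker]
    exact EmbeddingLike.map_eq_zero_iff (f := E.symm) (x := χ τ)
  · refine (PrinParts.toRing_bijective f n U).1 ?_
    show PrinParts.toRing f n U (E.symm (χ (a ⊗ₜ c))) = _
    rw [hE, PrinParts.toRing_smul, PrinParts.toRing_dn, ← h1, ← h2, ← map_mul,
      Algebra.TensorProduct.tmul_mul_tmul, mul_one, one_mul]

variable {X S X' S' : Scheme.{u}} {f : X ⟶ S} {g : S' ⟶ S} {u : X' ⟶ X} {f' : X' ⟶ S'} {n : ℕ}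
  {φ : (Scheme.Modules.pullback u).obj (P f n) ⟶ P f' n}

theorem app_mu_dn (hφ : IsPMap f f' u n φ) {U : X.Opens} {U' : X'.Opens} (eU : U' ≤ u ⁻¹ᵁ U)
    (c : Γ(X, U)) :
    φ.app U' (CechRes.PullSec.mu u (P f n) eU (dn f n U c)) = dn f' n U' (u.appLE U U' eU c) := by
  refine (ConcreteCategory.congr_hom (φ.mapPresheaf.naturality (homOfLE eU).op) _).trans ?_
  refine (congrArg ((P f' n).presheaf.map (homOfLE eU).op) (hφ U c)).trans ?_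
  exact (dP_map f' n (Coh.structureModule X') eU (OmegaSh.strSect X' _ (u.app U c))).symm

theorem app_bijective (hsq : IsPullback u f' f g) (hφ : IsPMap f f' u n φ) {V : S.Opens}
    (hV : IsAffineOpen V) {U : X.Opens} (hU : IsAffineOpen U) (e : U ≤ f ⁻¹ᵁ V) {V' : S'.Opens}
    (hV' : IsAffineOpen V') (eV : V' ≤ g ⁻¹ᵁ V) {U' : X'.Opens} (hU' : IsAffineOpen U')
    (hU'eq : U' = u ⁻¹ᵁ U ⊓ f' ⁻¹ᵁ V') : Function.Bijective (φ.app U') := by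
  subst hU'eq
  have eU : u ⁻¹ᵁ U ⊓ f' ⁻¹ᵁ V' ≤ u ⁻¹ᵁ U := inf_le_left
  have e' : u ⁻¹ᵁ U ⊓ f' ⁻¹ᵁ V' ≤ f' ⁻¹ᵁ V' := inf_le_right
  letI : Algebra Γ(S, V) Γ(X, U) := (f.appLE V U e).hom.toAlgebra
  letI : Algebra Γ(S, V) Γ(S', V') := (g.appLE V V' eV).hom.toAlgebra
  letI : Algebra Γ(X, U) Γ(X', u ⁻¹ᵁ U ⊓ f' ⁻¹ᵁ V') := (u.appLE U _ eU).hom.toAlgebra
  letI : Algebra Γ(S', V') Γ(X', u ⁻¹ᵁ U ⊓ f' ⁻¹ᵁ V') := (f'.appLE V' _ e').hom.toAlgebra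
  letI : Algebra Γ(S, V) Γ(X', u ⁻¹ᵁ U ⊓ f' ⁻¹ᵁ V') :=
    (f.appLE V U e ≫ u.appLE U _ eU).hom.toAlgebra
  haveI : IsScalarTower Γ(S, V) Γ(X, U) Γ(X', u ⁻¹ᵁ U ⊓ f' ⁻¹ᵁ V') :=
    IsScalarTower.of_algebraMap_eq fun _ => rfl
  haveI : IsScalarTower Γ(S, V) Γ(S', V') Γ(X', u ⁻¹ᵁ U ⊓ f' ⁻¹ᵁ V') :=
    IsScalarTower.of_algebraMap_eq fun b => by
      show (f.appLE V U e ≫ u.appLE U _ eU) b = (g.appLE V V' eV ≫ f'.appLE V' _ e') b
      simp only [Scheme.Hom.appLE_comp_appLE, hsq.w]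
  have hpo := (isIso_pushoutSection_iff hsq eV e (UY := u ⁻¹ᵁ U ⊓ f' ⁻¹ᵁ V') rfl).mp
    (isIso_pushoutSection_of_isAffineOpen hsq eV e rfl hV hV' hU)
  haveI : Algebra.IsPushout Γ(S, V) Γ(S', V') Γ(X, U) Γ(X', u ⁻¹ᵁ U ⊓ f' ⁻¹ᵁ V') :=
    CommRingCat.isPushout_iff_isPushout.1 hpo.flip
  haveI hq : (P f n).IsQuasicoherent :=
    PrinParts.isQCoh_PMod f n _ (TensorMod.QCohInv.isQCoh_structureModule X)
  let N := (Scheme.Modules.pullback u).obj (P f n)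
  letI : Module Γ(X, U) Γ(N, u ⁻¹ᵁ U ⊓ f' ⁻¹ᵁ V') := Module.compHom _ (u.appLE U _ eU).hom
  haveI : IsScalarTower Γ(X, U) Γ(X', u ⁻¹ᵁ U ⊓ f' ⁻¹ᵁ V') Γ(N, u ⁻¹ᵁ U ⊓ f' ⁻¹ᵁ V') :=
    IsScalarTower.of_algebraMap_smul fun _ _ => rfl
  have hb := CechRes.PullSec.isBaseChange_mu u (P f n) hU hU' eU
  obtain ⟨ψ, hs, hk, hψ⟩ := exists_psi f n hU hV e
  obtain ⟨ψ', hs', hk', hψ'⟩ := exists_psi f' n hU' hV' e'
  let L := (φ.app (u ⁻¹ᵁ U ⊓ f' ⁻¹ᵁ V')).hom.comp hb.equiv.toLinearMap.toAddMonoidHom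
  have hL : Function.Bijective L := bc_bijective n ψ hs hk ψ'.toAddMonoidHom hs' hk' L fun b' a c => by
    show φ.app _ (hb.equiv (b' ⊗ₜ ψ (a ⊗ₜ c))) = ψ' _
    rw [hb.equiv_tmul, hψ, hψ', Scheme.Modules.Hom.app_smul]
    show b' • φ.app _ (CechRes.PullSec.mu u (P f n) eU (a • dn f n U c)) = _
    rw [map_smulₛₗ, Scheme.Modules.Hom.app_smul, app_mu_dn hφ eU c, smul_smul]
    rfl
  exact (Function.Bijective.of_comp_iff _ hb.equiv.bijective).1 hL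

theorem isIso_pMap (hsq : IsPullback u f' f g) (hφ : IsPMap f f' u n φ) : IsIso φ := by
  haveI : (P f n).IsQuasicoherent :=
    PrinParts.isQCoh_PMod f n _ (TensorMod.QCohInv.isQCoh_structureModule X)
  haveI : (P f' n).IsQuasicoherent :=
    PrinParts.isQCoh_PMod f' n _ (TensorMod.QCohInv.isQCoh_structureModule X')
  haveI := QCoh.Pullback.isQCoh_pullback u (P f n)
  have key : ∀ x' : X', ∃ U' : X'.Opens, IsAffineOpen U' ∧ x' ∈ U' ∧ Function.Bijective (φ.app U') := by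
    intro x'
    obtain ⟨V, hV, hxV, -⟩ := exists_isAffineOpen_mem_and_subset (U := (⊤ : S.Opens)) (x := f (u x')) trivial
    obtain ⟨U, hU, hxU, eU'⟩ := exists_isAffineOpen_mem_and_subset (show u x' ∈ f ⁻¹ᵁ V from hxV)
    have e : U ≤ f ⁻¹ᵁ V := eU'
    have hgx : f' x' ∈ g ⁻¹ᵁ V := by
      show (f' ≫ g) x' ∈ V
      rw [← hsq.w]; exact hxV
    obtain ⟨V', hV', hxV', eV'⟩ := exists_isAffineOpen_mem_and_subset hgx
    have eV : V' ≤ g ⁻¹ᵁ V := eV'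
    have hU' : IsAffineOpen (u ⁻¹ᵁ U ⊓ f' ⁻¹ᵁ V') := by
      haveI : IsAffine _ := hV
      haveI : IsAffine _ := hV'
      haveI : IsAffine _ := hU
      exact .of_isIso (Scheme.Hom.isPullback_resLE hsq eV e (UY := u ⁻¹ᵁ U ⊓ f' ⁻¹ᵁ V') rfl).isoPullback.hom
    exact ⟨_, hU', ⟨hxU, hxV'⟩, app_bijective hsq hφ hV hU e hV' eV hU' rfl⟩
  haveI : Epi φ := QCohChart.Basic.epi_of_charts φ fun x => by
    obtain ⟨U', h1, h2, h3⟩ := key x
    exact ⟨U', h1, h2, h3.2⟩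
  haveI : Mono φ := QCohChart.Basic.mono_of_charts φ fun x => by
    obtain ⟨U', h1, h2, h3⟩ := key x
    exact ⟨U', h1, h2, h3.1⟩
  exact isIso_of_mono_of_epi φ

end Groth.Agent.Lib.PrinPartsBC
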